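import Mathlib.CategoryTheory.Abelian.Refinements
import Mathlib.CategoryTheory.Subobject.Lattice
import Mathlib.CategoryTheory.Subobject.Limits
import Mathlib.CategoryTheory.Abelian.Basic

/-!
Subobjects in an abelian category through generalized elements: a generalized element of `X` is a
morphism `T ⟶ X`, and it lies in `S` if `S.Factors` it.
-/

namespace Groth.Agent.SubElem

open CategoryTheory CategoryTheory.Limits

universe v u

variable {A : Type u} [Category.{v} A] [Abelian A] {X Y : A}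

theorem le_iff {S T : Subobject X} :
    S ≤ T ↔ ∀ ⦃W : A⦄ (x : W ⟶ X), S.Factors x → T.Factors x := by
  constructor
  · intro h W x hx
    exact Subobject.factors_of_le x h hx
  · intro h
    have := h S.arrow ((Subobject.factors_iff _ _).2 ⟨𝟙 _, by simp⟩)
    exact Subobject.le_of_comm (T.factorThru _ this) (by simp)

theorem eq_iff {S T : Subobject X} :
    S = T ↔ ∀ ⦃W : A⦄ (x : W ⟶ X), S.Factors x ↔ T.Factors x := by
  refine ⟨fun h W x => by rw [h], fun h => le_antisymm ?_ ?_⟩
  · exact le_iff.2 fun W x => (h x).1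
  · exact le_iff.2 fun W x => (h x).2

theorem factors_iff_exists {S : Subobject X} {W : A} (x : W ⟶ X) :
    S.Factors x ↔ ∃ s : W ⟶ (S : A), s ≫ S.arrow = x :=
  ⟨fun h => ⟨S.factorThru x h, by simp⟩, fun ⟨s, hs⟩ => hs ▸ Subobject.factors_comp_arrow s⟩

theorem factors_arrow (S : Subobject X) : S.Factors S.arrow :=
  (factors_iff_exists _).2 ⟨𝟙 _, by simp⟩

theorem pullback_factors_iff (f : X ⟶ Y) (S : Subobject Y) {W : A} (x : W ⟶ X) :
    ((Subobject.pullback f).obj S).Factors x ↔ S.Factors (x ≫ f) := by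
  rw [Subobject.pullback_obj, Subobject.mk_factors_iff, factors_iff_exists]
  constructor
  · rintro ⟨g, hg⟩
    exact ⟨g ≫ pullback.fst _ _, by simp [← hg, pullback.condition]⟩
  · rintro ⟨s, hs⟩
    exact ⟨pullback.lift s x hs, pullback.lift_snd _ _ _⟩

theorem factors_of_epi_comp {S : Subobject X} {W W' : A} (p : W' ⟶ W) [Epi p] (x : W ⟶ X)
    (h : S.Factors (p ≫ x)) : S.Factors x := by
  have hz : x ≫ cokernel.π S.arrow = 0 := by
    rw [← cancel_epi p, comp_zero, ← Category.assoc]
    obtain ⟨s, hs⟩ := (factors_iff_exists _).1 h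
    rw [← hs, Category.assoc, cokernel.condition, comp_zero]
  exact (factors_iff_exists _).2 ⟨Abelian.monoLift S.arrow x hz, Abelian.monoLift_comp _ _ _⟩

theorem imageSubobject_factors_iff (f : X ⟶ Y) {W : A} (y : W ⟶ Y) :
    (imageSubobject f).Factors y ↔
      ∃ (W' : A) (p : W' ⟶ W) (_ : Epi p) (x : W' ⟶ X), p ≫ y = x ≫ f := by
  constructor
  · intro h
    obtain ⟨s, hs⟩ := (factors_iff_exists _).1 h
    have : Epi (factorThruImageSubobject f) := by
      unfold factorThruImageSubobject; infer_instance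
    obtain ⟨W', p, hp, x, hx⟩ := surjective_up_to_refinements_of_epi (factorThruImageSubobject f) s
    refine ⟨W', p, hp, x, ?_⟩
    rw [← hs, ← Category.assoc, hx, Category.assoc, imageSubobject_arrow_comp]
  · rintro ⟨W', p, hp, x, hx⟩
    exact factors_of_epi_comp p y (hx ▸ imageSubobject_factors_comp_self f x)

theorem comp_factors {S : Subobject X} {W W' : A} (p : W' ⟶ W) {x : W ⟶ X} (h : S.Factors x) :
    S.Factors (p ≫ x) := Subobject.factors_of_factors_right p h

theorem factors_add {S : Subobject X} {W : A} {x y : W ⟶ X} (hx : S.Factors x) (hy : S.Factors y) :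
    S.Factors (x + y) := by
  obtain ⟨a, rfl⟩ := (factors_iff_exists _).1 hx
  obtain ⟨b, rfl⟩ := (factors_iff_exists _).1 hy
  exact (factors_iff_exists _).2 ⟨a + b, Preadditive.add_comp _ _ _ _ _ _⟩

theorem factors_sub {S : Subobject X} {W : A} {x y : W ⟶ X} (hx : S.Factors x) (hy : S.Factors y) :
    S.Factors (x - y) := by
  obtain ⟨a, rfl⟩ := (factors_iff_exists _).1 hx
  obtain ⟨b, rfl⟩ := (factors_iff_exists _).1 hy
  exact (factors_iff_exists _).2 ⟨a - b, Preadditive.sub_comp _ _ _⟩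

theorem factors_neg {S : Subobject X} {W : A} {x : W ⟶ X} (hx : S.Factors x) : S.Factors (-x) := by
  obtain ⟨a, rfl⟩ := (factors_iff_exists _).1 hx
  exact (factors_iff_exists _).2 ⟨-a, Preadditive.neg_comp _ _⟩

theorem inf_factors_iff {S T : Subobject X} {W : A} (x : W ⟶ X) :
    (S ⊓ T).Factors x ↔ S.Factors x ∧ T.Factors x := Subobject.inf_factors x

theorem sup_eq_image (S T : Subobject X) :
    S ⊔ T = imageSubobject (biprod.desc S.arrow T.arrow) := by
  refine le_antisymm (sup_le ?_ ?_) (le_iff.2 ?_)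
  · exact le_iff.2 fun W x hx => by
      obtain ⟨s, rfl⟩ := (factors_iff_exists _).1 hx
      exact (imageSubobject_factors_iff _ _).2 ⟨W, 𝟙 W, inferInstance, s ≫ biprod.inl, by simp⟩
  · exact le_iff.2 fun W x hx => by
      obtain ⟨s, rfl⟩ := (factors_iff_exists _).1 hx
      exact (imageSubobject_factors_iff _ _).2 ⟨W, 𝟙 W, inferInstance, s ≫ biprod.inr, by simp⟩
  · intro W x hx
    obtain ⟨W', p, hp, a, ha⟩ := (imageSubobject_factors_iff _ _).1 hx
    refine factors_of_epi_comp p x ?_
    have e : a ≫ biprod.desc S.arrow T.arrow =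
        (a ≫ biprod.fst) ≫ S.arrow + (a ≫ biprod.snd) ≫ T.arrow := by
      rw [biprod.desc_eq]; simp [Preadditive.comp_add]
    rw [ha, e]
    exact factors_add (Subobject.sup_factors_of_factors_left ((factors_iff_exists _).2 ⟨_, rfl⟩))
      (Subobject.sup_factors_of_factors_right ((factors_iff_exists _).2 ⟨_, rfl⟩))

theorem sup_factors_iff (S T : Subobject X) {W : A} (x : W ⟶ X) :
    (S ⊔ T).Factors x ↔ ∃ (W' : A) (p : W' ⟶ W) (_ : Epi p) (a b : W' ⟶ X),
      S.Factors a ∧ T.Factors b ∧ p ≫ x = a + b := by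
  constructor
  · intro h
    rw [sup_eq_image] at h
    obtain ⟨W', p, hp, a, ha⟩ := (imageSubobject_factors_iff _ _).1 h
    refine ⟨W', p, hp, (a ≫ biprod.fst) ≫ S.arrow, (a ≫ biprod.snd) ≫ T.arrow,
      (factors_iff_exists _).2 ⟨_, rfl⟩, (factors_iff_exists _).2 ⟨_, rfl⟩, ?_⟩
    rw [ha, biprod.desc_eq]
    simp [Preadditive.comp_add]
  · rintro ⟨W', p, hp, a, b, ha, hb, e⟩
    exact factors_of_epi_comp p x (e ▸ factors_add (Subobject.sup_factors_of_factors_left ha)
      (Subobject.sup_factors_of_factors_right hb))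

/-- Membership in the image of a subobject. -/
theorem image_arrow_comp_factors_iff (S : Subobject X) (f : X ⟶ Y) {W : A} (y : W ⟶ Y) :
    (imageSubobject (S.arrow ≫ f)).Factors y ↔
      ∃ (W' : A) (p : W' ⟶ W) (_ : Epi p) (x : W' ⟶ X), S.Factors x ∧ p ≫ y = x ≫ f := by
  rw [imageSubobject_factors_iff]
  constructor
  · rintro ⟨W', p, hp, s, hs⟩
    exact ⟨W', p, hp, s ≫ S.arrow, (factors_iff_exists _).2 ⟨s, rfl⟩, by simpa using hs⟩
  · rintro ⟨W', p, hp, x, hx, e⟩
    obtain ⟨s, rfl⟩ := (factors_iff_exists _).1 hx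
    exact ⟨W', p, hp, s, by simpa using e⟩

theorem bot_factors_iff {W : A} (x : W ⟶ X) : (⊥ : Subobject X).Factors x ↔ x = 0 :=
  Subobject.bot_factors_iff_zero x

theorem kernelSubobject_factors_iff (f : X ⟶ Y) {W : A} (x : W ⟶ X) :
    (kernelSubobject f).Factors x ↔ x ≫ f = 0 :=
  ⟨fun h => by
    obtain ⟨s, rfl⟩ := (factors_iff_exists _).1 h
    rw [Category.assoc, kernelSubobject_arrow_comp, comp_zero],
   fun h => kernelSubobject_factors f x h⟩

end Groth.Agent.SubElem
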